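import Groth.Agent.FFun.GoodM
import Groth.Agent.FFun.Main
import Groth.Agent.S0002
import Groth.Agent.Snapper.DimVanish
import Groth.Agent.QCoh.Stalk

/-! Cohomology of coherent modules vanishes above the dimension of the closed fibres. -/

noncomputable section

set_option linter.style.haveILetI false
set_option linter.unusedSectionVars false
set_option backward.isDefEq.respectTransparency false
set_option backward.isDefEq.respectTransparency.types false

universe u

open CategoryTheory CategoryTheory.Limits AlgebraicGeometry TopologicalSpace Opposite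

namespace Groth.Agent.FibVanish

open Groth.Agent

variable {A : Type u} [CommRing A] {X : Scheme.{u}} [X.Over (Spec (CommRingCat.of A))]

/-- `M / JM` is supported over the zero locus of `J`. -/
theorem support_modJ_subset (M : X.Modules) (J : Ideal A) :
    CohB1.support (FFun.modJ J M) ⊆ (X ↘ Spec (CommRingCat.of A)) ⁻¹' PrimeSpectrum.zeroLocus (J : Set A) := by
  intro x hx
  by_contra hJ
  obtain ⟨a, haJ, ha⟩ := Set.not_subset.1 hJ
  refine hx (subsingleton_of_forall_eq 0 fun m => ?_)
  obtain ⟨U, hxU, s, rfl⟩ := (FFun.modJ J M).presheaf.exists_germ_eq (x := x) m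
  have hb : x ∈ X.basicOpen ((X ↘ Spec (CommRingCat.of A)).appTop ((Scheme.ΓSpecIso (CommRingCat.of A)).inv a)) := by
    rw [← Scheme.preimage_basicOpen_top, basicOpen_eq_of_affine]
    exact ha
  have hu : IsUnit (X.presheaf.germ U x hxU
      (show Γ(X, U) from Coh.resTop X (op U) (Coh.toGlobal (X ↘ Spec (CommRingCat.of A)) a))) := by
    have h1 := (Scheme.mem_basicOpen X _ x (show x ∈ (⊤ : X.Opens) from trivial)).1 hb
    convert h1 using 1
    exact X.presheaf.germ_res_apply (homOfLE le_top) x hxU _
  have hs := congr(($(FFun.mem_killIdeal.1 (FFun.le_killIdeal_modJ J M haJ))).app U s)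
  rw [FFun.smulMod_app] at hs
  have h2 := congrArg ((FFun.modJ J M).presheaf.germ U x hxU) hs
  rw [QCoh.germ_smul'] at h2
  refine hu.smul_eq_zero.1 (h2.trans ?_)
  exact map_zero _

theorem isNoetherian_of_proper (A : Type u) [CommRing A] [IsNoetherianRing A] {X : Scheme.{u}}
    [X.Over (Spec (CommRingCat.of A))] [IsProper (X ↘ Spec (CommRingCat.of A))] : IsNoetherian X := by
  haveI : CompactSpace X := QuasiCompact.compactSpace_of_compactSpace (X ↘ Spec (CommRingCat.of A))
  haveI : IsLocallyNoetherian X := LocallyOfFiniteType.isLocallyNoetherian (X ↘ Spec (CommRingCat.of A))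
  exact { __ := ‹IsLocallyNoetherian X›, __ := ‹CompactSpace X› }

/-- Vanishing above the dimension of the fibres over the closed points. -/
theorem subsingleton_HH_of_closedFibre (A : Type u) [CommRing A] [IsNoetherianRing A] {X : Scheme.{u}}
    [X.Over (Spec (CommRingCat.of A))] [IsProper (X ↘ Spec (CommRingCat.of A))] {d : ℕ}
    (hfib : ∀ y : ↥(Spec (CommRingCat.of A)), IsClosed ({y} : Set ↥(Spec (CommRingCat.of A))) →
      topologicalKrullDim ↥((X ↘ Spec (CommRingCat.of A)) ⁻¹' {y}) ≤ d)
    {M : X.Modules} (hM : Coh.IsCoh M) {p : ℕ} (hp : d < p) : Subsingleton (Coh.HH X M p) := by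
  haveI := isNoetherian_of_proper A (X := X)
  haveI : X.IsSeparated := ⟨by
    rw [← terminal.comp_from (X ↘ Spec (CommRingCat.of A))]; infer_instance⟩
  let H := Coh.HH X M p
  haveI : Module.Finite A H := S0002.result A X M hM p
  refine not_nontrivial_iff_subsingleton.1 fun hnt => ?_
  obtain ⟨m, hm, hle⟩ := Ideal.exists_le_maximal (Module.annihilator A H) fun h => by
    obtain ⟨x, hx⟩ := exists_ne (0 : H)
    exact hx (by simpa using (Module.mem_annihilator.1 (h.ge (Submodule.mem_top : (1 : A) ∈ ⊤)) x))
  let y : ↥(Spec (CommRingCat.of A)) := ⟨m, hm.isPrime⟩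
  have hy : IsClosed ({y} : Set ↥(Spec (CommRingCat.of A))) := (PrimeSpectrum.isClosed_singleton_iff_isMaximal y).2 hm
  have hzero : ∀ n : ℕ, Subsingleton (Formal.HHmodPow m M p n) := fun n => by
    refine Snapper.subsingleton_HH_of_dim_lt (d + 1)
      ⟨(X ↘ Spec (CommRingCat.of A)) ⁻¹' {y}, hy.preimage (X ↘ Spec (CommRingCat.of A)).continuous⟩
      (lt_of_le_of_lt (hfib y hy) (by exact_mod_cast Nat.lt_succ_self d)) _
      (FFun.isCoh_modJ (m ^ (n + 1)) hM).1 (fun x hx => ?_) p hp
    have h := (PrimeSpectrum.mem_zeroLocus _ _).1 (support_modJ_subset M (m ^ (n + 1)) hx)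
    exact PrimeSpectrum.ext (hm.eq_of_le (Ideal.IsPrime.ne_top')
      (((PrimeSpectrum.isPrime _).pow_le_iff n.succ_ne_zero).1 h)).symm
  have hbij := FFun.compΦ_bijective_of_goodM
    (FFun.goodM_of_finite hM (fun q => S0002.result A X M hM q) m) (p := p)
  haveI : Subsingleton (Formal.HHlim m M p) :=
    ⟨fun a b => Subtype.ext (funext fun n => (hzero n).elim _ _)⟩
  have htop : (⊤ : Submodule A H) ≤ m • ⊤ := fun x _ => by
    have h : AdicCompletion.of m H x = 0 := hbij.1 (Subsingleton.elim _ _)
    have h1 := congrArg (AdicCompletion.eval m H 1) h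
    rw [map_zero, AdicCompletion.eval_of, Submodule.mkQ_apply, Submodule.Quotient.mk_eq_zero, pow_one] at h1
    exact h1
  obtain ⟨r, hr, hr0⟩ := Submodule.exists_sub_one_mem_and_smul_eq_zero_of_fg_of_le_smul m ⊤
    (Module.finite_def.1 inferInstance) htop
  have hrm : r ∈ m := hle (Module.mem_annihilator.2 fun x => hr0 x trivial)
  exact hm.ne_top ((Ideal.eq_top_iff_one m).2 (by simpa using sub_mem hrm hr))

end Groth.Agent.FibVanish
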