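import Groth.Agent.FibVanish.Basic
import Groth.Agent.NefCurve.Relative
import Groth.Agent.QcqsColim.FTSub
import Groth.Agent.SiteBase.ModColim
import Mathlib.CategoryTheory.Limits.Constructions.Filtered

/-! Quasi-coherent vanishing above the fibre dimension, and `H¹` of globally generated modules. -/

noncomputable section

set_option linter.style.haveILetI false
set_option linter.unusedSectionVars false
set_option backward.isDefEq.respectTransparency false
set_option backward.isDefEq.respectTransparency.types false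

universe u

open CategoryTheory CategoryTheory.Limits AlgebraicGeometry TopologicalSpace Opposite
open Groth.Agent.PnCoh.Finite (mapLin)

attribute [local instance] Groth.Agent.QCoh.hasFiniteBiproducts

namespace Groth.Agent.FibVanish

open Groth.Agent

variable {A : Type u} [CommRing A] [IsNoetherianRing A] {X : Scheme.{u}} [X.Over (Spec (CommRingCat.of A))]
  [IsProper (X ↘ Spec (CommRingCat.of A))]

theorem subsingleton_HH_qcoh {d : ℕ}
    (hfib : ∀ y : ↥(Spec (CommRingCat.of A)), IsClosed ({y} : Set ↥(Spec (CommRingCat.of A))) →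
      topologicalKrullDim ↥((X ↘ Spec (CommRingCat.of A)) ⁻¹' {y}) ≤ d)
    {M : X.Modules} (hM : Coh.IsQCoh M) {p : ℕ} (hp : d < p) : Subsingleton (Coh.HH X M p) := by
  haveI := isNoetherian_of_proper A (X := X)
  exact QcqsColim.subsingleton_HH_of_ftSub hM p fun N hN =>
    subsingleton_HH_of_closedFibre A hfib ⟨QCoh.isQCoh_of_ftOn hM hN, QCoh.isFT_of_ftOn hM hN⟩ hp

include A in
/-- Vanishing for arbitrary sums of copies of `O`. -/
theorem subsingleton_HH_free (J : Type u) (n : ℕ) (h : Subsingleton (Coh.HH X (Coh.structureModule X) n)) :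
    Subsingleton (Coh.HH X (∐ fun _ : J => Coh.structureModule X) n) := by
  classical
  haveI := isNoetherian_of_proper A (X := X)
  haveI : CompactSpace (TopCat.of X) := inferInstanceAs (CompactSpace X)
  haveI : QuasiSeparatedSpace (TopCat.of X) := inferInstanceAs (QuasiSeparatedSpace X)
  haveI : PrespectralSpace (TopCat.of X) := inferInstanceAs (PrespectralSpace X)
  let T : Discrete J ⥤ X.Modules := Discrete.functor fun _ : J => Coh.structureModule X
  let D : Finset (Discrete J) ⥤ X.Modules := CoproductsFromFiniteFiltered.liftToFinsetObj T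
  let e₁ : colimit D ≅ ∐ fun _ : J => Coh.structureModule X :=
    (CoproductsFromFiniteFiltered.liftToFinsetColimIso (C := X.Modules) (α := J)).app T
  haveI : PreservesColimitsOfSize.{u, u} (QCoh.toAbFunctor X) := SiteBase.preservesColimitsOfSize_toSheaf _
  let e : colimit (D ⋙ QCoh.toAbFunctor X) ≅ Coh.toAb (∐ fun _ : J => Coh.structureModule X) :=
    (preservesColimitIso (QCoh.toAbFunctor X) D).symm ≪≫ (QCoh.toAbFunctor X).mapIso e₁
  refine subsingleton_of_forall_eq 0 fun x => ?_
  obtain ⟨S, y, hy⟩ := QcqsColim.exists_stage (T := TopCat.of X) (D ⋙ QCoh.toAbFunctor X) n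
    (x.comp (Abelian.Ext.mk₀ e.inv) (add_zero n))
  have hS : Subsingleton (Coh.HH X (D.obj S) n) := by
    let TS : {x // x ∈ S} → X.Modules := fun j => T.obj j.1
    refine QCoh.subsingleton_HH_of_iso (biproduct.isoCoproduct TS) n (subsingleton_of_forall_eq 0 fun w => ?_)
    rw [NefCurve.Relative.biproduct_class (A := A) TS n w]
    exact Finset.sum_eq_zero fun j _ => by
      rw [h.elim (mapLin A (biproduct.π TS j) n w) 0, map_zero]
  have hy0 : y = 0 := hS.elim y 0
  have hx : x = (x.comp (Abelian.Ext.mk₀ e.inv) (add_zero n)).comp (Abelian.Ext.mk₀ e.hom) (add_zero n) := by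
    rw [Abelian.Ext.comp_assoc_of_second_deg_zero, Abelian.Ext.mk₀_comp_mk₀, Iso.inv_hom_id, Abelian.Ext.comp_mk₀_id]
  rw [hx, ← hy, hy0, Abelian.Ext.zero_comp, Abelian.Ext.zero_comp]

/-- Globally generated modules have no `H¹`. -/
theorem h1_of_globallyGenerated
    (hfib : ∀ y : ↥(Spec (CommRingCat.of A)), IsClosed ({y} : Set ↥(Spec (CommRingCat.of A))) →
      topologicalKrullDim ↥((X ↘ Spec (CommRingCat.of A)) ⁻¹' {y}) ≤ (1 : ℕ))
    (h1 : Subsingleton (Coh.HH X (Coh.structureModule X) 1))
    {F : X.Modules} (hF : Coh.IsQCoh F) (hgg : Curv2.IsGloballyGenerated F) : Subsingleton (Coh.HH X F 1) := by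
  haveI := isNoetherian_of_proper A (X := X)
  obtain ⟨J, q, hq⟩ := hgg
  let q' : (∐ fun _ : J => Coh.structureModule X) ⟶ F := q
  haveI : Epi q' := hq
  have hP : Coh.IsQCoh (∐ fun _ : J => Coh.structureModule X) :=
    QCoh.isQCoh_colimit (Discrete.functor fun _ : J => Coh.structureModule X) fun _ => QCoh.isCoh_structureModule'.1
  exact PnCoh.Finite.subsingleton_HH_X₃ (CurveSlope.shortExact_kernel_of_epi q') 1
    (subsingleton_HH_free (A := A) J 1 h1)
    (subsingleton_HH_qcoh hfib (QCoh.isQCoh_kernel hP hF q') one_lt_two)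

end Groth.Agent.FibVanish
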