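import Groth.Agent.FibVanish.Basic
import Groth.Agent.S0554
import Mathlib.RingTheory.Ideal.Height

/-! Fibres of a proper birational morphism onto a two-dimensional base have dimension at most one. -/

noncomputable section

set_option linter.style.haveILetI false
set_option linter.unusedSectionVars false
set_option backward.isDefEq.respectTransparency false
set_option backward.isDefEq.respectTransparency.types false

universe u

open CategoryTheory CategoryTheory.Limits AlgebraicGeometry TopologicalSpace Opposite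

namespace Groth.Agent.FibVanish

open Groth.Agent

variable (A : Type u) [CommRing A] [IsDomain A] [IsNoetherianRing A]

theorem fibre_dim_le_one (hdim : ringKrullDim A ≤ 2) {X : Scheme.{u}} [IsIntegral X]
    (f : X ⟶ Spec (CommRingCat.of A)) [LocallyOfFiniteType f]
    (hbir : ∃ U : (Spec (CommRingCat.of A)).Opens, (U : Set (Spec (CommRingCat.of A))).Nonempty ∧ IsIso (f ∣_ U))
    (y : ↥(Spec (CommRingCat.of A))) (hy : y.asIdeal ≠ ⊥) :
    topologicalKrullDim ↥(f ⁻¹' {y}) ≤ (1 : ℕ) := by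
  classical
  obtain ⟨U, hU, hiso⟩ := hbir
  haveI := hiso
  let η := genericPoint X
  let ξ := genericPoint ↥(Spec (CommRingCat.of A))
  have hξU : ξ ∈ U := ((genericPoint_spec ↥(Spec (CommRingCat.of A))).mem_open_set_iff U.2).2 (by rwa [Set.univ_inter])
  obtain ⟨z, hz⟩ := (f ∣_ U).surjective ⟨ξ, hξU⟩
  have hzξ : f z.1 = ξ := by
    rw [← Scheme.Opens.ι_apply (f ⁻¹ᵁ U) z]
    exact (Scheme.Hom.comp_apply _ _ _).symm.trans ((congrArg (fun g => g z) (morphismRestrict_ι f U)).symm.trans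
      ((Scheme.Hom.comp_apply _ _ _).trans (congrArg U.ι hz)))
  have hfη : f η = ξ := by
    have h1 : f η ⤳ ξ := hzξ ▸ (genericPoint_specializes z.1).map f.continuous
    exact (h1.antisymm (genericPoint_specializes (f η))).eq
  have hξ : (ξ : PrimeSpectrum A).asIdeal = ⊥ := by
    exact le_bot_iff.1 ((PrimeSpectrum.le_iff_specializes (R := A) (show PrimeSpectrum A from ξ)
      ⟨⊥, Ideal.isPrime_bot⟩).2 (genericPoint_specializes _))
  have hne : f η ≠ y := fun h => hy (by rw [← h, hfη, hξ])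
  refine iSup_le fun p => ?_
  by_contra hp
  have hlen : 2 ≤ p.length := by
    by_contra h
    exact hp (by exact_mod_cast Nat.le_of_lt_succ (not_le.1 h))
  let Z₀ := p ⟨0, by omega⟩
  let Z₁ := p ⟨1, by omega⟩
  let Z₂ := p ⟨2, by omega⟩
  have h01 : Z₀ < Z₁ := p.strictMono (by simp [Fin.lt_def])
  have h12 : Z₁ < Z₂ := p.strictMono (by simp [Fin.lt_def])
  obtain ⟨w₀, hw₀⟩ := Z₀.isIrreducible.nonempty
  -- generic points in `X`
  have hgen : ∀ Z : IrreducibleCloseds ↥(f ⁻¹' {y}), ∃ x : X, IsGenericPoint x (closure (Subtype.val '' (Z : Set ↥(f ⁻¹' {y})))) := fun Z =>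
    QuasiSober.sober ((Z.isIrreducible.image _ continuous_subtype_val.continuousOn).closure) isClosed_closure
  choose g hg using hgen
  have hback : ∀ Z : IrreducibleCloseds ↥(f ⁻¹' {y}),
      Subtype.val ⁻¹' closure (Subtype.val '' (Z : Set ↥(f ⁻¹' {y}))) = (Z : Set ↥(f ⁻¹' {y})) := fun Z => by
    rw [← Topology.IsInducing.subtypeVal.closure_eq_preimage_closure_image, Z.isClosed.closure_eq]
  have hlt : ∀ {Z Z' : IrreducibleCloseds ↥(f ⁻¹' {y})}, Z < Z' → g Z' ⤳ g Z ∧ g Z' ≠ g Z := fun {Z Z'} h => by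
    refine ⟨(hg Z').specializes (closure_mono (Set.image_mono (show (Z : Set ↥(f ⁻¹' {y})) ⊆ Z' from h.le)) (hg Z).mem), fun he => h.ne ?_⟩
    refine IrreducibleCloseds.ext ?_
    rw [← hback Z, ← hback Z', ← (hg Z).def, ← (hg Z').def, he]
  have hw : g Z₀ ⤳ w₀.1 := (hg Z₀).specializes (subset_closure ⟨w₀, hw₀, rfl⟩)
  obtain ⟨_, ⟨V, hV, rfl⟩, hwV, -⟩ := X.isBasis_affineOpens.exists_subset_of_mem_open (Set.mem_univ w₀.1) isOpen_univ
  have h0V : g Z₀ ∈ V := hw.mem_open V.2 hwV
  have h1V : g Z₁ ∈ V := (hlt h01).1.mem_open V.2 h0V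
  have h2V : g Z₂ ∈ V := (hlt h12).1.mem_open V.2 h1V
  have hηV : η ∈ V := (genericPoint_specializes _).mem_open V.2 h0V
  have h2η : g Z₂ ≠ η := fun he => hne (by
    obtain ⟨w₂, hw₂⟩ := Z₂.isIrreducible.nonempty
    have hmem : η ∈ closure (Subtype.val '' (Z₂ : Set ↥(f ⁻¹' {y}))) := he ▸ (hg Z₂).mem
    have hy' : ∀ w : ↥(f ⁻¹' {y}), f w.1 = y := fun w => w.2
    have h2 : f η ∈ closure ({y} : Set ↥(Spec (CommRingCat.of A))) := by
      refine closure_mono ?_ (image_closure_subset_closure_image f.continuous ⟨η, hmem, rfl⟩)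
      rintro _ ⟨_, ⟨w, -, rfl⟩, rfl⟩
      exact hy' w
    have h3 : y ⤳ f η := specializes_iff_mem_closure.2 h2
    exact (h3.antisymm (hfη ▸ genericPoint_specializes y)).eq.symm)
  haveI : Nonempty V := ⟨⟨η, hηV⟩⟩
  haveI : IsNoetherianRing Γ(X, V) := by
    haveI : IsLocallyNoetherian X := LocallyOfFiniteType.isLocallyNoetherian f
    exact IsLocallyNoetherian.component_noetherian ⟨V, hV⟩
  -- the coordinate ring is finite type and algebraic over `A`
  let e₀ := (Scheme.ΓSpecIso (CommRingCat.of A)).commRingCatIsoToRingEquiv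
  let φ₀ : Γ(Spec (CommRingCat.of A), ⊤) →+* Γ(X, V) := (f.appLE ⊤ V le_top).hom
  let φ : A →+* Γ(X, V) := φ₀.comp e₀.symm.toRingHom
  letI : Algebra A Γ(X, V) := φ.toAlgebra
  haveI : IsIso (f.stalkMap η) := by
    have hηU : f η ∈ U := hfη ▸ hξU
    haveI : IsIso ((f ∣_ U).stalkMap ⟨η, hηU⟩) := inferInstance
    exact ((MorphismProperty.isomorphisms CommRingCat).arrow_mk_iso_iff (morphismRestrictStalkMap f U ⟨η, hηU⟩)).1 this
  have hgerm : ∀ a : Γ(Spec (CommRingCat.of A), ⊤),
      f.stalkMap η ((Spec (CommRingCat.of A)).presheaf.germ ⊤ (f η) trivial a) = X.presheaf.germ V η hηV (φ₀ a) := fun a => by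
    rw [Scheme.Hom.germ_stalkMap_apply]
    exact (X.presheaf.germ_res_apply (homOfLE (le_top : V ≤ f ⁻¹ᵁ ⊤)) η hηV _).symm
  have hgi : Function.Injective (X.presheaf.germ V η hηV) := germ_injective_of_isIntegral X η hηV
  have htop := isAffineOpen_top (Spec (CommRingCat.of A))
  haveI := htop.isLocalization_stalk ⟨f η, trivial⟩
  letI := (Spec (CommRingCat.of A)).presheaf.algebra_section_stalk (⟨f η, trivial⟩ : (⊤ : (Spec (CommRingCat.of A)).Opens))
  haveI : IsDomain Γ(Spec (CommRingCat.of A), ⊤) := e₀.toMulEquiv.isDomain A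
  have hφinj : Function.Injective φ := by
    have h0 : Function.Injective φ₀ := fun a b hab => by
      have h := congrArg (X.presheaf.germ V η hηV) hab
      rw [← hgerm, ← hgerm] at h
      have h' := (ConcreteCategory.bijective_of_isIso (f.stalkMap η)).1 h
      exact germ_injective_of_isIntegral (Spec (CommRingCat.of A)) (f η) (U := ⊤) trivial h'
    exact h0.comp e₀.symm.injective
  haveI : FaithfulSMul A Γ(X, V) := (faithfulSMul_iff_algebraMap_injective A Γ(X, V)).2 hφinj
  haveI : Algebra.FiniteType A Γ(X, V) :=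
    (f.finiteType_appLE (isAffineOpen_top _) hV le_top).comp (RingHom.FiniteType.of_surjective _ e₀.symm.surjective)
  haveI : Algebra.IsAlgebraic A Γ(X, V) := ⟨fun b => by
    obtain ⟨v, hv⟩ := (ConcreteCategory.bijective_of_isIso (f.stalkMap η)).2 (X.presheaf.germ V η hηV b)
    obtain ⟨r, s, rfl⟩ := IsLocalization.exists_mk'_eq (htop.primeIdealOf ⟨f η, trivial⟩).asIdeal.primeCompl v
    have hs0 : (s : Γ(Spec (CommRingCat.of A), ⊤)) ≠ 0 := fun h => s.2 (h.symm ▸ Ideal.zero_mem _)
    have hspec := congrArg (f.stalkMap η) (IsLocalization.mk'_spec ((Spec (CommRingCat.of A)).presheaf.stalk (f η)) r s)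
    rw [map_mul, hv] at hspec
    have h1 : X.presheaf.germ V η hηV (b * φ₀ s) = X.presheaf.germ V η hηV (φ₀ r) := by
      rw [map_mul, ← hgerm, ← hgerm]
      exact hspec
    have h2 := hgi h1
    refine ⟨Polynomial.C (e₀ s) * Polynomial.X - Polynomial.C (e₀ r), fun h0 => hs0 (e₀.injective ?_), ?_⟩
    · have := congrArg (fun q => Polynomial.coeff q 1) h0
      simpa using this
    · simp only [map_sub, map_mul, Polynomial.aeval_C, Polynomial.aeval_X]
      show φ₀ (e₀.symm (e₀ s)) * b - φ₀ (e₀.symm (e₀ r)) = 0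
      rw [RingEquiv.symm_apply_apply, RingEquiv.symm_apply_apply, mul_comm, h2, sub_self]⟩
  -- four comparable primes
  have hmono : ∀ {a b : X} (ha : a ∈ V) (hb : b ∈ V), a ⤳ b → a ≠ b →
      (hV.primeIdealOf ⟨a, ha⟩).asIdeal < (hV.primeIdealOf ⟨b, hb⟩).asIdeal := fun {a b} ha hb hab hne' => by
    have h1 : hV.primeIdealOf ⟨a, ha⟩ ⤳ hV.primeIdealOf ⟨b, hb⟩ :=
      ((subtype_specializes_iff _ _).2 hab : (⟨a, ha⟩ : V) ⤳ ⟨b, hb⟩).map hV.isoSpec.hom.continuous
    refine lt_of_le_of_ne ((PrimeSpectrum.le_iff_specializes _ _).2 h1) fun he => hne' ?_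
    exact congrArg Subtype.val ((Scheme.Hom.homeomorph hV.isoSpec.hom).injective (PrimeSpectrum.ext he))
  have c₁ := hmono hηV h2V (genericPoint_specializes _) (Ne.symm h2η)
  have c₂ := hmono h2V h1V (hlt h12).1 (hlt h12).2
  have c₃ := hmono h1V h0V (hlt h01).1 (hlt h01).2
  let q := (hV.primeIdealOf ⟨g Z₀, h0V⟩).asIdeal
  have hq3 : (3 : ℕ∞) ≤ q.height := by
    have d₁ := Ideal.height_add_one_le_of_lt_of_isPrime c₁
    have d₂ := Ideal.height_add_one_le_of_lt_of_isPrime c₂
    have d₃ := Ideal.height_add_one_le_of_lt_of_isPrime c₃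
    refine le_trans ?_ d₃
    refine le_trans ?_ (add_le_add_left d₂ 1)
    refine le_trans ?_ (add_le_add_left (add_le_add_left d₁ 1) 1)
    refine le_trans ?_ (add_le_add_left (add_le_add_left (add_le_add_left zero_le 1) 1) 1)
    norm_num
  let p' := q.comap (algebraMap A Γ(X, V))
  have hS := S0554.result A Γ(X, V) p' q
  rw [trdeg_eq_zero (R := A) (A := Γ(X, V)), add_zero] at hS
  have hle : q.height ≤ p'.height := by
    have h : (q.height : Cardinal.{u}) ≤ (p'.height : Cardinal.{u}) := le_trans le_self_add hS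
    simpa using h
  have hp2 : (p'.height : WithBot ℕ∞) ≤ 2 := le_trans Ideal.height_le_ringKrullDim_of_isPrime hdim
  have : (3 : ℕ∞) ≤ 2 := hq3.trans (hle.trans (WithBot.coe_le_coe.1 hp2))
  exact absurd this (by decide)

end Groth.Agent.FibVanish
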