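import Groth.Agent.FibVanish.PowQuot
import Groth.Agent.FibVanish.BlowUpDomain
import Groth.Agent.FEtHom.Main
import Groth.Agent.S9821

/-! The blowing up of the maximal ideal of a rational singularity is normal. -/

noncomputable section

set_option autoImplicit false
set_option linter.style.haveILetI false
set_option linter.unusedSectionVars false
set_option backward.isDefEq.respectTransparency false
set_option backward.isDefEq.respectTransparency.types false
set_option maxHeartbeats 1000000

universe u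

open CategoryTheory CategoryTheory.Limits AlgebraicGeometry TopologicalSpace Opposite IsLocalRing

namespace Groth.Agent.FibVanish.PowSect

open Groth.Agent Groth.Agent.PointBlowUp

/-- An element integral over a principal ideal of an integrally closed domain lies in it. -/
theorem mem_span_of_integral {R : Type u} [CommRing R] [IsDomain R] [IsIntegrallyClosed R] (t C : R) (N k : ℕ)
    (γ : Fin N → R) (hγ : ∀ i : Fin N, γ i ∈ (Ideal.span {t ^ k}) ^ (N - (i : ℕ))) (ht : t ≠ 0)
    (h : C ^ N + ∑ i, γ i * C ^ (i : ℕ) = 0) : C ∈ Ideal.span {t ^ k} := by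
  let K := FractionRing R
  let T : K := algebraMap R K (t ^ k)
  have hT : T ≠ 0 := (map_ne_zero_iff _ (IsFractionRing.injective R K)).2 (pow_ne_zero _ ht)
  have hdiv : ∀ i : Fin N, ∃ δ, γ i = (t ^ k) ^ (N - (i : ℕ)) * δ := fun i => by
    have := hγ i
    rw [Ideal.span_singleton_pow, Ideal.mem_span_singleton] at this
    exact this
  choose δ hδ using hdiv
  let x : K := algebraMap R K C / T
  have hx : IsIntegral R x := by
    refine ⟨Polynomial.X ^ N + ∑ i, Polynomial.C (δ i) * Polynomial.X ^ (i : ℕ),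
      Polynomial.monic_X_pow_add (Polynomial.degree_sum_fin_lt δ), ?_⟩
    rw [Polynomial.eval₂_add, Polynomial.eval₂_X_pow, Polynomial.eval₂_finsetSum]
    simp only [Polynomial.eval₂_mul, Polynomial.eval₂_C, Polynomial.eval₂_X_pow]
    have h' := congrArg (algebraMap R K) h
    rw [map_zero, map_add, map_sum, map_pow] at h'
    have hTN : T ^ N ≠ 0 := pow_ne_zero _ hT
    refine (mul_eq_zero.1 (Eq.trans ?_ h' : (x ^ N + ∑ i : Fin N, algebraMap R K (δ i) * x ^ (i : ℕ)) * T ^ N = 0)).resolve_right hTN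
    rw [add_mul, ← mul_pow, div_mul_cancel₀ _ hT, Finset.sum_mul]
    congr 1
    refine Finset.sum_congr rfl fun i _ => ?_
    rw [hδ i, map_mul, map_mul, map_pow, map_pow]
    have e : T ^ N = T ^ (i : ℕ) * T ^ (N - (i : ℕ)) := by rw [← pow_add, Nat.add_sub_cancel' i.2.le]
    rw [e, mul_assoc, ← mul_assoc (x ^ (i : ℕ)), ← mul_pow, div_mul_cancel₀ _ hT]
    show _ = ((algebraMap R K) t ^ k) ^ (N - (i : ℕ)) * _ * _
    rw [map_pow (algebraMap R K) C]
    simp only [T, map_pow]
    ring
  obtain ⟨r, hr⟩ := IsIntegrallyClosed.isIntegral_iff.1 hx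
  refine Ideal.mem_span_singleton.2 ⟨r, IsFractionRing.injective R K ?_⟩
  rw [map_mul, hr]
  show algebraMap R K C = T * (algebraMap R K C / T)
  rw [mul_div_cancel₀ _ hT]

/-- Membership in an ideal sheaf may be checked on a cover by affine opens. -/
theorem mem_of_cover {X : Scheme.{u}} (D : X.IdealSheafData) (r : Γ(X, ⊤))
    (h : ∀ x : X, ∃ V : X.affineOpens, x ∈ V.1 ∧ X.presheaf.map (homOfLE (le_top : V.1 ≤ ⊤)).op r ∈ D.ideal V)
    (U : X.affineOpens) : X.presheaf.map (homOfLE (le_top : U.1 ≤ ⊤)).op r ∈ D.ideal U := by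
  have h0 : D.subschemeι.app ⊤ r = 0 := by
    choose V hxV hV using h
    refine TopCat.Sheaf.eq_of_locally_eq' D.subscheme.sheaf (fun x : X => D.subschemeι ⁻¹ᵁ (V x).1)
      (D.subschemeι ⁻¹ᵁ ⊤) (fun x => homOfLE le_top) ?_ _ _ fun x => ?_
    · intro z _
      exact Opens.mem_iSup.2 ⟨D.subschemeι z, hxV _⟩
    · have hm := hV x
      rw [← D.ker_subschemeι_app, RingHom.mem_ker] at hm
      have hn := congr($(D.subschemeι.naturality (homOfLE (le_top : (V x).1 ≤ ⊤)).op) r)
      erw [map_zero]
      exact hn.symm.trans hm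
  obtain ⟨k, hk⟩ := OmegaLib.exists_idealSect_eq D ⊤ r h0
  rw [← hk, ← OmegaLib.idealSect_map]
  exact OmegaLib.idealSect_mem D U _

variable {A : Type u} [CommRing A] [IsLocalRing A] [IsDomain A] [IsNoetherianRing A] [IsIntegrallyClosed A]
  {X : Scheme.{u}} [X.Over (Spec (CommRingCat.of A))] [IsProper (X ↘ Spec (CommRingCat.of A))] [AlgebraicGeometry.IsIntegral X]

/-- The powers of the maximal ideal are integrally closed. -/
theorem mem_pow_of_integral (H : Hyp (A := A) (X := X)) (hXn : Pi1.IsNormalScheme X) (C : A) (N k : ℕ)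
    (γ : Fin N → A) (hγ : ∀ i : Fin N, γ i ∈ maximalIdeal A ^ (k * (N - (i : ℕ))))
    (h : C ^ N + ∑ i, γ i * C ^ (i : ℕ) = 0) : C ∈ maximalIdeal A ^ k := by
  obtain ⟨-, hmem⟩ := main (X ↘ Spec (CommRingCat.of A)) H.fib H.h1 H.bir H.cartier k
  refine (hmem C).1 fun U => mem_of_cover _ _ (fun x => ?_) U
  obtain ⟨V, hxV, t, ht, hV⟩ := H.cartier x
  refine ⟨V, hxV, ?_⟩
  haveI : Nonempty V.1 := ⟨⟨x, hxV⟩⟩
  haveI : IsIntegrallyClosed Γ(X, V.1) := (S9821.result X).1 hXn V.1 V.2
  let ρ : A →+* Γ(X, V.1) := (X.presheaf.map (homOfLE (le_top : V.1 ≤ ⊤)).op).hom.comp (scalOf (X ↘ Spec (CommRingCat.of A)))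
  have hI : ∀ n, (maximalIdeal A ^ n).map ρ = Ideal.span {t ^ n} := fun n => by
    rw [← Ideal.span_singleton_pow, ← hV, ← Pi.pow_apply, ← Scheme.IdealSheafData.ideal_pow, ideal_comap_pow',
      Ideal.map_map]
  rw [Scheme.IdealSheafData.ideal_pow, Pi.pow_apply, hV, Ideal.span_singleton_pow]
  refine mem_span_of_integral t (ρ C) N k (fun i => ρ (γ i)) (fun i => ?_) (nonZeroDivisors.ne_zero ht) ?_
  · rw [Ideal.span_singleton_pow, ← pow_mul, ← hI]
    exact Ideal.mem_map_of_mem _ (hγ i)
  · have := congrArg ρ h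
    simpa using this

omit [IsLocalRing A] [IsDomain A] [IsNoetherianRing A] [IsIntegrallyClosed A] in
theorem mem_affineAlgebra_iff (I : Ideal A) {a : A} (ha : a ∈ I) (z : Localization.Away a) :
    z ∈ BlowUp.affineAlgebra A I a ↔ ∃ s : ℕ, ∃ β ∈ I ^ s, z * algebraMap A (Localization.Away a) (a ^ s) =
      algebraMap A (Localization.Away a) β := by
  constructor
  · intro hz
    induction hz using Algebra.adjoin_induction with
    | mem q hq =>
      obtain ⟨x, hx, rfl⟩ := hq
      exact ⟨1, x, by rwa [pow_one], by rw [pow_one]; exact IsLocalization.mk'_spec _ x ⟨a, Submonoid.mem_powers a⟩⟩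
    | algebraMap r => exact ⟨0, r, by rw [pow_zero, Ideal.one_eq_top]; exact trivial, by rw [pow_zero, map_one, mul_one]⟩
    | add p q _ _ hp hq =>
      obtain ⟨s, β, hβ, hp⟩ := hp
      obtain ⟨s', β', hβ', hq⟩ := hq
      refine ⟨s + s', β * a ^ s' + β' * a ^ s, ?_, ?_⟩
      · refine Ideal.add_mem _ ?_ ?_
        · rw [pow_add]; exact Ideal.mul_mem_mul hβ (Ideal.pow_mem_pow ha s')
        · rw [add_comm s, pow_add]; exact Ideal.mul_mem_mul hβ' (Ideal.pow_mem_pow ha s)
      · rw [map_add, map_mul, map_mul, ← hp, ← hq, pow_add, map_mul]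
        ring
    | mul p q _ _ hp hq =>
      obtain ⟨s, β, hβ, hp⟩ := hp
      obtain ⟨s', β', hβ', hq⟩ := hq
      refine ⟨s + s', β * β', by rw [pow_add]; exact Ideal.mul_mem_mul hβ hβ', ?_⟩
      rw [map_mul, ← hp, ← hq, pow_add, map_mul]
      ring
  · rintro ⟨s, β, hβ, h⟩
    induction s generalizing z β with
    | zero =>
      rw [pow_zero, map_one, mul_one] at h
      rw [h]
      exact Subalgebra.algebraMap_mem _ _
    | succ s ih =>
      let u : Localization.Away a := IsLocalization.mk' (Localization.Away a) (1 : A) ⟨a, Submonoid.mem_powers a⟩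
      have hu : u * algebraMap A (Localization.Away a) a = 1 := by
        rw [IsLocalization.mk'_spec, map_one]
      have hz : z = algebraMap A (Localization.Away a) β * u ^ (s + 1) := by
        rw [← h, map_pow, mul_assoc, ← mul_pow, mul_comm _ u, hu, one_pow, mul_one]
      rw [hz]
      clear h hz
      rw [pow_succ'] at hβ
      induction hβ using Submodule.mul_induction_on' with
      | mem_mul_mem m hm n hn =>
        rw [map_mul, pow_succ', mul_mul_mul_comm]
        refine Subalgebra.mul_mem _ ?_ (ih _ n hn ?_)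
        · refine Algebra.subset_adjoin ⟨m, hm, ?_⟩
          rw [IsLocalization.eq_mk'_iff_mul_eq, mul_assoc, hu, mul_one]
        · rw [map_pow, mul_assoc, ← mul_pow, hu, one_pow, mul_one]
      | add p _ q _ hp hq =>
        rw [map_add, add_mul]
        exact Subalgebra.add_mem _ hp hq

/-- The charts of the blowing up are integrally closed. -/
theorem isIntegrallyClosed_chart (H : Hyp (A := A) (X := X)) (hXn : Pi1.IsNormalScheme X) {a : A}
    (ha : a ∈ maximalIdeal A) (ha0 : a ≠ 0) :
    IsDomain (BlowUp.affineAlgebra A (maximalIdeal A) a) ∧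
      IsIntegrallyClosed (BlowUp.affineAlgebra A (maximalIdeal A) a) := by
  classical
  let B := BlowUp.affineAlgebra A (maximalIdeal A) a
  have hle : Submonoid.powers a ≤ nonZeroDivisors A := powers_le_nonZeroDivisors_of_noZeroDivisors ha0
  haveI : IsDomain (Localization.Away a) := IsLocalization.isDomain_of_le_nonZeroDivisors _ hle
  haveI : IsIntegrallyClosed (Localization.Away a) := isIntegrallyClosed_of_isLocalization _ (Submonoid.powers a) hle
  haveI hdom : IsDomain B := inferInstance
  refine ⟨hdom, (isIntegrallyClosed_iff (FractionRing B)).2 fun {x} hx => ?_⟩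
  let incl : B →+* Localization.Away a := B.val.toRingHom
  have hincl : Function.Injective incl := Subtype.val_injective
  let L := FractionRing (Localization.Away a)
  let g : FractionRing B →+* L := IsFractionRing.lift (A := B) (g := (algebraMap (Localization.Away a) L).comp incl)
    ((IsFractionRing.injective (Localization.Away a) L).comp hincl)
  have hg : ∀ b : B, g (algebraMap B (FractionRing B) b) = algebraMap (Localization.Away a) L (incl b) := fun b =>
    IsFractionRing.lift_algebraMap _ b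
  obtain ⟨p, hp, hpe⟩ := hx
  have he : Polynomial.eval₂ (algebraMap (Localization.Away a) L) (g x) (p.map incl) = 0 := by
    rw [Polynomial.eval₂_map, ← show g.comp (algebraMap B (FractionRing B)) = (algebraMap (Localization.Away a) L).comp incl from RingHom.ext hg,
      ← Polynomial.hom_eval₂, hpe, map_zero]
  obtain ⟨y, hy⟩ := IsIntegrallyClosed.isIntegral_iff.1 (⟨p.map incl, hp.map _, he⟩ : IsIntegral (Localization.Away a) (g x))
  suffices hyB : y ∈ B by
    exact ⟨⟨y, hyB⟩, g.injective ((hg _).trans hy)⟩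
  let ι := algebraMap A (Localization.Away a)
  have hy0 : Polynomial.eval₂ incl y p = 0 := IsFractionRing.injective (Localization.Away a) L (by
    rw [Polynomial.hom_eval₂, hy, map_zero, ← Polynomial.eval₂_map]
    exact he)
  rw [Polynomial.eval₂_eq_sum_range, Finset.sum_range_succ] at hy0
  rw [show incl (p.coeff p.natDegree) = 1 by rw [hp.coeff_natDegree, map_one], one_mul, add_comm,
    ← Fin.sum_univ_eq_sum_range (fun i => incl (p.coeff i) * y ^ i)] at hy0
  set N := p.natDegree
  obtain ⟨c, ⟨_, j, rfl⟩, hc⟩ := IsLocalization.exists_mk'_eq (Submonoid.powers a) y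
  have hb : ∀ i : Fin N, ∃ s : ℕ, ∃ β ∈ maximalIdeal A ^ s, incl (p.coeff i) * ι (a ^ s) = ι β := fun i =>
    (mem_affineAlgebra_iff _ ha _).1 (p.coeff i).2
  choose s β hβ hbe using hb
  let S := ∑ i, s i
  let k := j + S
  let C := c * a ^ S
  have hyC : y * ι (a ^ k) = ι C := by
    rw [pow_add, map_mul, ← mul_assoc, ← hc, IsLocalization.mk'_spec, ← map_mul]
  refine (mem_affineAlgebra_iff _ ha y).2 ⟨k, C, ?_, hyC⟩
  have hs : ∀ i : Fin N, s i ≤ k * (N - (i : ℕ)) := fun i => by
    have h1 : s i ≤ S := Finset.single_le_sum (f := s) (fun _ _ => Nat.zero_le _) (Finset.mem_univ i)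
    have h2 : k ≤ k * (N - (i : ℕ)) := Nat.le_mul_of_pos_right _ (Nat.sub_pos_of_lt i.2)
    have h3 : k = j + S := rfl
    omega
  refine mem_pow_of_integral H hXn C N k (fun i : Fin N => β i * a ^ (k * (N - (i : ℕ)) - s i)) (fun i => ?_) ?_
  · have h1 := Ideal.mul_mem_mul (hβ i) (Ideal.pow_mem_pow ha (k * (N - (i : ℕ)) - s i))
    rwa [← pow_add, Nat.add_sub_cancel' (hs i)] at h1
  · refine IsLocalization.injective (Localization.Away a) hle ?_
    have hz := congrArg (· * ι (a ^ k) ^ N) hy0
    simp only [add_mul, zero_mul, Finset.sum_mul, ← mul_pow, hyC] at hz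
    rw [map_zero, map_add, map_pow, map_sum]
    refine Eq.trans ?_ hz
    congr 1
    refine Finset.sum_congr rfl fun i _ => ?_
    have e : ι (a ^ k) ^ N = ι (a ^ k) ^ (i : ℕ) * ι (a ^ (k * (N - (i : ℕ)))) := by
      rw [pow_mul a, map_pow ι (a ^ k), ← pow_add, Nat.add_sub_cancel' i.2.le]
    rw [e, show incl (p.coeff i) * y ^ (i : ℕ) * (ι (a ^ k) ^ (i : ℕ) * ι (a ^ (k * (N - (i : ℕ))))) =
      incl (p.coeff i) * ι (a ^ (k * (N - (i : ℕ)))) * (y * ι (a ^ k)) ^ (i : ℕ) from by ring, hyC,
      map_mul, map_mul, map_pow ι C]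
    congr 1
    rw [← hbe i, mul_assoc, ← map_mul, ← pow_add, Nat.add_sub_cancel' (hs i)]

/-- The blowing up of the maximal ideal is normal. -/
theorem isNormalScheme_blowUp (H : Hyp (A := A) (X := X)) (hXn : Pi1.IsNormalScheme X)
    {Y : Scheme.{u}} (b : Y ⟶ Spec (CommRingCat.of A))
    (hb : BlowUp.IsBlowUp b (Curv2.idealSheaf A (maximalIdeal A))) : Pi1.IsNormalScheme Y := by
  intro y
  obtain ⟨e, -⟩ := BlowUpLib.exists_iso hb (BlowUpLib.isBlowUp_local (maximalIdeal A))
  obtain ⟨a, z, hz⟩ := BlowUpLib.chart_covers (maximalIdeal A) (e.hom y)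
  by_cases ha0 : (a : A) = 0
  · exfalso
    have : Subsingleton (Localization.Away (a : A)) :=
      IsLocalization.subsingleton (M := Submonoid.powers (a : A)) (S := Localization.Away (a : A)) ⟨1, (pow_one _).trans ha0⟩
    haveI : Subsingleton (BlowUp.affineAlgebra A (maximalIdeal A) (a : A)) := inferInstance
    exact (show PrimeSpectrum (BlowUp.affineAlgebra A (maximalIdeal A) (a : A)) from z).2.ne_top
      (Ideal.eq_top_iff_one _ |>.2 (by rw [Subsingleton.elim (1 : BlowUp.affineAlgebra A (maximalIdeal A) (a : A)) 0]; exact zero_mem _))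
  obtain ⟨hd, hc⟩ := isIntegrallyClosed_chart H hXn a.2 ha0
  haveI := hd
  haveI := hc
  let φ := BlowUpLib.chart (maximalIdeal A) a ≫ e.inv
  have hφ : φ z = y := by
    rw [Scheme.Hom.comp_apply, hz, ← Scheme.Hom.comp_apply, e.hom_inv_id]
    rfl
  rw [← hφ]
  obtain ⟨h1, h2⟩ := FEtHom.isNormalScheme_spec (BlowUp.affineAlgebra A (maximalIdeal A) (a : A)) z
  let E := (asIso (φ.stalkMap z)).commRingCatIsoToRingEquiv
  haveI := h1
  haveI := h2
  haveI : IsDomain (Y.presheaf.stalk (φ z)) := E.toMulEquiv.isDomain _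
  exact ⟨inferInstance, IsIntegrallyClosed.of_equiv E.symm⟩

end Groth.Agent.FibVanish.PowSect
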