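import Groth.Agent.FibVanish.BlowUpNormal
import Groth.Agent.FibVanish.PowDeg
import Groth.Agent.AlgSpLib.CartierDepth
import Groth.Agent.FiltExt.Quot
import Groth.Agent.Triage.CMMor
import Groth.Agent.S5094
import Groth.Agent.S9801
import Groth.Agent.S18879
import Groth.Agent.SchTop.Closed

/-! The exceptional divisor of a normal modification of a two-dimensional local domain. -/

noncomputable section

set_option autoImplicit false
set_option linter.style.haveILetI false
set_option linter.unusedSectionVars false
set_option backward.isDefEq.respectTransparency false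
set_option backward.isDefEq.respectTransparency.types false
set_option maxHeartbeats 1000000

universe u

open CategoryTheory CategoryTheory.Limits AlgebraicGeometry TopologicalSpace Opposite IsLocalRing

namespace Groth.Agent.FibVanish.PowSect

open Groth.Agent Groth.Agent.PointBlowUp

variable {A : Type u} [CommRing A] [IsLocalRing A] [IsDomain A] [IsNoetherianRing A] [IsIntegrallyClosed A]
  {X : Scheme.{u}} [X.Over (Spec (CommRingCat.of A))] [IsProper (X ↘ Spec (CommRingCat.of A))] [AlgebraicGeometry.IsIntegral X]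

theorem dim_total_le (hdim : ringKrullDim A ≤ 2) (H : Hyp (A := A) (X := X)) : topologicalKrullDim X ≤ 2 := by
  haveI := FibVanish.isNoetherian_of_proper A (X := X)
  haveI : X.IsSeparated := ⟨by rw [← terminal.comp_from (X ↘ Spec (CommRingCat.of A))]; infer_instance⟩
  obtain ⟨U, hU, hiso⟩ := H.bir
  haveI := hiso
  obtain ⟨hgen, hb, -⟩ := ContractUP.birational_of_isIso_restrict (X ↘ Spec (CommRingCat.of A)) hU
  have hbir : RadPt.IsBirational (X ↘ Spec (CommRingCat.of A)) := by
    rw [RadPt.IsBirational, genericPoints_eq_singleton, genericPoints_eq_singleton]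
    refine ⟨⟨fun x hx => ?_, fun x hx y hy _ => (Set.mem_singleton_iff.1 hx).trans (Set.mem_singleton_iff.1 hy).symm,
      fun y hy => ⟨genericPoint X, rfl, hgen.trans (Set.mem_singleton_iff.1 hy).symm⟩⟩, fun y hy => ?_⟩
    · rw [Set.mem_singleton_iff.1 hx]; exact hgen
    · have hu : ∀ x : X, (X ↘ Spec (CommRingCat.of A)) x = y → x = genericPoint X := fun x hx => by
        have hyU : y ∈ U := by
          rw [Set.mem_singleton_iff.1 hy]
          exact ((genericPoint_spec _).mem_open_set_iff U.2).2 (by rwa [Set.univ_inter])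
        have h1 : (X ↘ Spec (CommRingCat.of A)) x ∈ U := by rw [hx]; exact hyU
        have h2 : (X ↘ Spec (CommRingCat.of A)) (genericPoint X) ∈ U := by
          rw [hgen, ← Set.mem_singleton_iff.1 hy]; exact hyU
        have := ((X ↘ Spec (CommRingCat.of A)) ∣_ U).isOpenEmbedding.injective
          (a₁ := ⟨x, h1⟩) (a₂ := ⟨genericPoint X, h2⟩) (Subtype.ext (by
            rw [morphismRestrict_base_coe, morphismRestrict_base_coe]
            show (X ↘ Spec (CommRingCat.of A)) x = (X ↘ Spec (CommRingCat.of A)) (genericPoint X)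
            rw [hx, hgen, ← Set.mem_singleton_iff.1 hy]))
        exact congrArg Subtype.val this
      refine ⟨fun x x' hx hx' => (hu x hx).trans (hu x' hx').symm, fun x hx => ?_⟩
      rw [hu x hx]
      refine ⟨RingHom.injective _, fun t => ?_⟩
      haveI := hb
      obtain ⟨s, rfl⟩ := IsLocalRing.residue_surjective t
      obtain ⟨r, rfl⟩ := (ConcreteCategory.bijective_of_isIso ((X ↘ Spec (CommRingCat.of A)).stalkMap (genericPoint X))).2 s
      exact ⟨IsLocalRing.residue _ r, rfl⟩
  rw [topologicalKrullDim, Order.krullDim_eq_of_orderIso irreducibleSetEquivPoints, Order.krullDim_eq_iSup_coheight]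
  refine iSup_le fun x => ?_
  rw [← ringKrullDim_stalk_eq_coheight x]
  refine (S18879.result (X ↘ Spec (CommRingCat.of A)) hbir x).trans ?_
  refine le_trans ?_ hdim
  let q : PrimeSpectrum A := (X ↘ Spec (CommRingCat.of A)) x
  letI : Algebra A ((Spec (CommRingCat.of A)).presheaf.stalk ((X ↘ Spec (CommRingCat.of A)) x)) := StructureSheaf.stalkAlgebra A q
  haveI : IsLocalization.AtPrime ((Spec (CommRingCat.of A)).presheaf.stalk ((X ↘ Spec (CommRingCat.of A)) x)) q.asIdeal :=
    StructureSheaf.IsLocalization.to_stalk A q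
  exact (IsLocalization.AtPrime.ringKrullDim_eq_height q.asIdeal _).le.trans Ideal.height_le_ringKrullDim_of_isPrime

/-- The stalks of the exceptional divisor are Cohen–Macaulay. -/
theorem cm_stalk (hdim : ringKrullDim A ≤ 2) (H : Hyp (A := A) (X := X)) (hXn : Pi1.IsNormalScheme X)
    (z : (fibI A X).subscheme) :
    LocCoh.IsCohenMacaulayLocalRing ((fibI A X).subscheme.presheaf.stalk z) := by
  haveI := FibVanish.isNoetherian_of_proper A (X := X)
  haveI := S9801.result X hXn (dim_total_le hdim H) ((fibI A X).subschemeι z)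
  obtain ⟨g, hg, hker⟩ := AlgSpLib.CartierDepth.exists_stalk_generator H.cartier z
  let φ : X.presheaf.stalk ((fibI A X).subschemeι z) →+* (fibI A X).subscheme.presheaf.stalk z :=
    ((fibI A X).subschemeι.stalkMap z).hom
  have hφ : Function.Surjective φ := (fibI A X).subschemeι.stalkMap_surjective z
  have hgm : g ∈ maximalIdeal (X.presheaf.stalk ((fibI A X).subschemeι z)) :=
    le_maximalIdeal (RingHom.ker_ne_top φ) (hker ▸ Ideal.mem_span_singleton_self g)
  have hreg : IsSMulRegular (X.presheaf.stalk ((fibI A X).subschemeι z)) g :=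
    (isRegular_iff_mem_nonZeroDivisors.2 hg).left.isSMulRegular
  let e := (Ideal.quotientEquivAlgOfEq (X.presheaf.stalk ((fibI A X).subschemeι z)) hker).toRingEquiv.symm.trans
    (RingHom.quotientKerEquivOfSurjective hφ)
  haveI : IsLocalRing (X.presheaf.stalk ((fibI A X).subschemeι z) ⧸ Ideal.span {g}) := e.symm.isLocalRing
  exact Triage.CMMor.isCM_of_equiv e (FiltExt.isCMLocal_quot hgm hreg)

/-- The exceptional divisor has dimension one. -/
theorem dim_eq_one (hdim : ringKrullDim A = 2) (H : Hyp (A := A) (X := X)) :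
    topologicalKrullDim ↥(fibI A X).subscheme = 1 := by
  refine le_antisymm (by simpa using dim_le H) (le_of_not_gt fun hlt => ?_)
  have h0 : topologicalKrullDim ↥(fibI A X).subscheme ≤ 0 := by
    revert hlt
    cases topologicalKrullDim ↥(fibI A X).subscheme with
    | bot => intro _; exact bot_le
    | coe n =>
      intro hn
      have : n < 1 := by exact_mod_cast hn
      exact_mod_cast (ENat.lt_one_iff_eq_zero.1 this).le
  haveI := FibVanish.isNoetherian_of_proper A (X := X)
  let f := X ↘ Spec (CommRingCat.of A)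
  let c : ↥(Spec (CommRingCat.of A)) := IsLocalRing.closedPoint A
  have hrange : Set.range (fibI A X).subschemeι = f ⁻¹' {c} := by
    refine le_antisymm range_subset_fibre fun x hx => ?_
    rw [Scheme.IdealSheafData.range_subschemeι, Scheme.IdealSheafData.support_comap]
    show f x ∈ (Curv2.idealSheaf A (maximalIdeal A)).support
    rw [← SetLike.mem_coe, Curv2.idealSheaf, Scheme.IdealSheafData.coe_support_ofIdealTop, Spec_zeroLocus,
      Set.mem_singleton_iff.1 hx]
    intro r hr
    obtain ⟨a, ha, har⟩ := (Ideal.mem_map_iff_of_surjective _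
      (ConcreteCategory.bijective_of_isIso (Scheme.ΓSpecIso (CommRingCat.of A)).inv).2).1 hr
    exact (ConcreteCategory.bijective_of_isIso (Scheme.ΓSpecIso (CommRingCat.of A)).inv).1 har ▸ ha
  let e : ↥(fibI A X).subscheme ≃ₜ ↥(f.fiber c) :=
    ((fibI A X).subschemeι.isEmbedding.toHomeomorph.trans (Homeomorph.setCongr hrange)).trans (f.fiberHomeo c).symm
  have hfd : topologicalKrullDim ↥(f.fiber c) ≤ 0 :=
    (e.isHomeomorph.topologicalKrullDim_eq).ge.trans h0
  obtain ⟨U, hU, hiso⟩ := H.bir
  haveI := hiso
  obtain ⟨hgen, hb, hsurj⟩ := ContractUP.birational_of_isIso_restrict f hU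
  haveI : NoetherianSpace ↥(fibI A X).subscheme := (fibI A X).subschemeι.isClosedEmbedding.isInducing.noetherianSpace
  haveI : NoetherianSpace ↥(f.fiber c) := noetherianSpace_of_surjective _ e.continuous e.surjective
  obtain ⟨x₀, hx₀⟩ := hsurj.surj c
  let w : ↥(f.fiber c) := (f.fiberHomeo c).symm ⟨x₀, hx₀⟩
  have hy : IsIntegrallyClosed ((Spec (CommRingCat.of A)).presheaf.stalk c) := (FEtHom.isNormalScheme_spec A c).2
  obtain ⟨V, hcV, hViso⟩ := S5094.result f hgen hb c hy w (SchTop.isOpen_singleton_of_dim_le_zero hfd w)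
  haveI := hViso
  haveI : IsIso (f.stalkMap x₀) := by
    haveI : IsIso ((f ∣_ V).stalkMap ⟨x₀, show f x₀ ∈ V from hx₀ ▸ hcV⟩) := inferInstance
    exact ((MorphismProperty.isomorphisms CommRingCat).arrow_mk_iso_iff
      (morphismRestrictStalkMap f V ⟨x₀, show f x₀ ∈ V from hx₀ ▸ hcV⟩)).1 this
  let q : PrimeSpectrum A := f x₀
  have hq : q.asIdeal = maximalIdeal A := congrArg PrimeSpectrum.asIdeal hx₀
  letI : Algebra A ((Spec (CommRingCat.of A)).presheaf.stalk (f x₀)) := StructureSheaf.stalkAlgebra A q
  haveI : IsLocalization.AtPrime ((Spec (CommRingCat.of A)).presheaf.stalk (f x₀)) q.asIdeal :=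
    StructureSheaf.IsLocalization.to_stalk A q
  have hunit : q.asIdeal.primeCompl ≤ IsUnit.submonoid A := fun a ha => by
    have h : a ∉ q.asIdeal := ha
    rw [hq, mem_maximalIdeal, mem_nonunits_iff, not_not] at h
    exact h
  let E : A ≃ₐ[A] ((Spec (CommRingCat.of A)).presheaf.stalk (f x₀)) :=
    IsLocalization.atUnits A q.asIdeal.primeCompl hunit
  have hE : Function.Bijective (algebraMap A ((Spec (CommRingCat.of A)).presheaf.stalk (f x₀))) := by
    have h := E.bijective
    rwa [show (E : A → _) = algebraMap A ((Spec (CommRingCat.of A)).presheaf.stalk (f x₀)) from funext fun a => E.commutes a] at h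
  obtain ⟨W, hxW, t, ht, hW⟩ := H.cartier x₀
  let φ : A →+* X.presheaf.stalk x₀ := (X.presheaf.germ W.1 x₀ hxW).hom.comp
    ((X.presheaf.map (homOfLE (le_top : W.1 ≤ ⊤)).op).hom.comp (scalOf f))
  have hφe : φ = (f.stalkMap x₀).hom.comp (algebraMap A ((Spec (CommRingCat.of A)).presheaf.stalk (f x₀))) := by
    refine RingHom.ext fun a => ?_
    show X.presheaf.germ W.1 x₀ hxW (X.presheaf.map (homOfLE (le_top : W.1 ≤ ⊤)).op (scalOf f a)) = _
    rw [X.presheaf.germ_res_apply]
    exact (Scheme.Hom.germ_stalkMap_apply f ⊤ x₀ trivial _).symm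
  have hφ : Function.Bijective φ := by
    rw [hφe]
    exact (ConcreteCategory.bijective_of_isIso (f.stalkMap x₀)).comp hE
  have hm : (maximalIdeal A).map φ = Ideal.span {X.presheaf.germ W.1 x₀ hxW t} := by
    have h := ideal_comap_pow' f 1 W
    rw [pow_one, pow_one] at h
    rw [← Ideal.map_map, ← Ideal.map_map, ← h, hW, Ideal.map_span, Set.image_singleton]
  obtain ⟨s, hs⟩ := hφ.2 (X.presheaf.germ W.1 x₀ hxW t)
  have hms : maximalIdeal A = Ideal.span {s} := by
    rw [← Ideal.comap_map_of_bijective φ hφ (I := maximalIdeal A), hm, ← hs, ← Set.image_singleton, ← Ideal.map_span,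
      Ideal.comap_map_of_bijective φ hφ]
  have hle := IsLocalRing.maximalIdeal_height_eq_ringKrullDim (R := A)
  rw [hdim] at hle
  have h1 : (maximalIdeal A).height ≤ 1 := by
    refine (Ideal.height_le_spanRank_toENat _ (Ideal.IsPrime.ne_top inferInstance)).trans ?_
    rw [hms]
    exact (Cardinal.toENat.monotone' ((Submodule.spanRank_span_le_card _).trans (Cardinal.mk_singleton _).le)).trans (by simp)
  have : ((maximalIdeal A).height : WithBot ℕ∞) ≤ 1 := by exact_mod_cast h1
  rw [hle] at this
  exact absurd this (by decide)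

end Groth.Agent.FibVanish.PowSect
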